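import Cfsg.Agent.Lib.Linear.SmallIso
import Cfsg.Agent.Lib.Coprime.Sylow

/-! The centraliser of a transvection in `SL₅(2)`. -/

set_option autoImplicit false

namespace Cfsg.Lib.Fis

open Subgroup Matrix

/-- The matrices commuting with the transvection. -/
def mk5 (x : Fin 7 → ZMod 2) (A : Matrix (Fin 3) (Fin 3) (ZMod 2)) : Matrix (Fin 5) (Fin 5) (ZMod 2) :=
  !![1, x 0, x 1, x 2, x 3; 0, 1, 0, 0, 0; 0, x 4, A 0 0, A 0 1, A 0 2; 0, x 5, A 1 0, A 1 1, A 1 2;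
    0, x 6, A 2 0, A 2 1, A 2 2]

theorem det_mk5 (x : Fin 7 → ZMod 2) (A : Matrix (Fin 3) (Fin 3) (ZMod 2)) : (mk5 x A).det = A.det := by
  rw [det_succ_column_zero, det_fin_three]
  simp [Fin.sum_univ_succ, mk5, det_succ_row_zero, Fin.succAbove, sub_eq_add_neg]
  ring

theorem mk5_inj {x y : Fin 7 → ZMod 2} {A B : Matrix (Fin 3) (Fin 3) (ZMod 2)} (h : mk5 x A = mk5 y B) : x = y ∧ A = B := by
  have k := fun i j => congrFun (congrFun h i) j
  refine ⟨funext fun i => ?_, Matrix.ext fun i j => ?_⟩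
  · fin_cases i; exacts [k 0 1, k 0 2, k 0 3, k 0 4, k 2 1, k 3 1, k 4 1]
  · fin_cases i <;> fin_cases j; exacts [k 2 2, k 2 3, k 2 4, k 3 2, k 3 3, k 3 4, k 4 2, k 4 3, k 4 4]

theorem mk5_mul {x y z : Fin 7 → ZMod 2} {A B C : Matrix (Fin 3) (Fin 3) (ZMod 2)} (h : mk5 z C = mk5 x A * mk5 y B) :
    C = A * B := by
  ext i j
  have := congrFun (congrFun h i.succ.succ) j.succ.succ
  rw [mul_apply, Fin.sum_univ_five] at this
  rw [mul_apply, Fin.sum_univ_three]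
  fin_cases i <;> fin_cases j <;> simpa [mk5] using this

variable {s : SpecialLinearGroup (Fin 5) (ZMod 2)} (hs : (s : Matrix (Fin 5) (Fin 5) (ZMod 2)) = transvection 0 1 1)
include hs

theorem mem_cent {g : SpecialLinearGroup (Fin 5) (ZMod 2)} :
    g ∈ centralizer ({s} : Set (SpecialLinearGroup (Fin 5) (ZMod 2))) ↔ ∃ x A, g.1 = mk5 x A := by
  have e : transvection (0 : Fin 5) 1 (1 : ZMod 2) = mk5 ![1, 0, 0, 0, 0, 0, 0] 1 := by decide
  refine (mem_centralizer_singleton_iff.trans (Subtype.ext_iff (a1 := g * s) (a2 := s * g))).trans ?_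
  change g.1 * s.1 = s.1 * g.1 ↔ _
  rw [hs, e]
  constructor
  · intro h
    have k := fun i j => congrFun (congrFun h i) j
    have k1 := k 0 0; have k2 := k 0 1; have k3 := k 0 2; have k4 := k 0 3; have k5 := k 0 4
    have k6 := k 2 1; have k7 := k 3 1; have k8 := k 4 1
    simp [mk5, mul_apply, Fin.sum_univ_succ, add_comm] at k1 k2 k3 k4 k5 k6 k7 k8
    have k9 : g.1 0 0 = 1 := by
      have := g.2
      rw [det_succ_column_zero] at this
      simp [Fin.sum_univ_succ, k1, k6, k7, k8] at this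
      exact this.1
    rw [add_comm, add_left_inj, k9, eq_comm] at k2
    refine ⟨![g.1 0 1, g.1 0 2, g.1 0 3, g.1 0 4, g.1 2 1, g.1 3 1, g.1 4 1],
      !![g.1 2 2, g.1 2 3, g.1 2 4; g.1 3 2, g.1 3 3, g.1 3 4; g.1 4 2, g.1 4 3, g.1 4 4], ?_⟩
    ext i j; fin_cases i <;> fin_cases j <;> simp [mk5, *]
  · rintro ⟨x, A, h⟩
    rw [h]
    ext i j; fin_cases i <;> fin_cases j <;> simp [mk5, mul_apply, Fin.sum_univ_succ, add_comm]

theorem card_cent : Nat.card (centralizer ({s} : Set (SpecialLinearGroup (Fin 5) (ZMod 2)))) = 21504 := by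
  let f : (Fin 7 → ZMod 2) × SpecialLinearGroup (Fin 3) (ZMod 2) → centralizer ({s} : Set (SpecialLinearGroup (Fin 5) (ZMod 2))) :=
    fun p => ⟨⟨mk5 p.1 p.2, (det_mk5 _ _).trans p.2.2⟩, (mem_cent hs).2 ⟨_, _, rfl⟩⟩
  rw [← Nat.card_eq_of_bijective f ⟨fun p q e => ?_, fun g => ?_⟩, Nat.card_prod, Linear.card_SL_three_two]
  · simp
  · obtain ⟨k1, k2⟩ := mk5_inj (congrArg (·.1.1) e)
    exact Prod.ext k1 (Subtype.ext k2)
  · obtain ⟨x, A, e⟩ := (mem_cent hs).1 g.2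
    exact ⟨(x, ⟨A, by rw [← det_mk5 x, ← e]; exact g.1.2⟩), Subtype.ext (Subtype.ext e.symm)⟩

theorem cent_sylow (T : Sylow 2 (centralizer ({s} : Set (SpecialLinearGroup (Fin 5) (ZMod 2)))))
    {c : centralizer ({s} : Set (SpecialLinearGroup (Fin 5) (ZMod 2)))} (hc : ∀ t ∈ T, t * c = c * t) : c = 1 ∨ c.1 = s := by
  choose x A e using fun g : centralizer ({s} : Set (SpecialLinearGroup (Fin 5) (ZMod 2))) => (mem_cent hs).1 g.2
  let β : centralizer ({s} : Set (SpecialLinearGroup (Fin 5) (ZMod 2))) →* Matrix (Fin 3) (Fin 3) (ZMod 2) :=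
    { toFun := A
      map_one' := (mk5_inj (y := 0) ((e 1).symm.trans (show (1 : Matrix (Fin 5) (Fin 5) (ZMod 2)) = mk5 0 1 by decide))).2
      map_mul' := fun g h => mk5_mul ((e _).symm.trans (by rw [← e, ← e]; rfl)) }
  have h1 : ∀ x, mk5 x 1 * mk5 x 1 * (mk5 x 1 * mk5 x 1) = 1 := by decide +kernel
  have h2 : β.ker ≤ T := IsPGroup.le_sylow_of_normal (N := β.ker) (fun g => ⟨2, Subtype.ext (Subtype.ext (Subtype.ext (by
    have := h1 (x g.1)
    rw [← show A g.1 = 1 from g.2, ← e] at this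
    rw [show 2 ^ 2 = 2 + 2 by rfl, pow_add, sq]; exact this)))⟩) T
  have h3 : ∀ y, mk5 y 1 * mk5 (x c) (A c) = mk5 (x c) (A c) * mk5 y 1 := fun y => by
    have := hc ⟨⟨mk5 y 1, (det_mk5 _ _).trans det_one⟩, (mem_cent hs).2 ⟨_, _, rfl⟩⟩ (h2 (mk5_inj
      (e ⟨⟨mk5 y 1, (det_mk5 _ _).trans det_one⟩, (mem_cent hs).2 ⟨_, _, rfl⟩⟩)).2.symm)
    rw [← e]; exact congrArg (·.1.1) this
  have k := fun y i j => congrFun (congrFun (h3 y) i) j
  have h4 : c.1.1 = mk5 ![x c 0, 0, 0, 0, 0, 0, 0] 1 := by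
    rw [e]
    have k1 := k ![0, 1, 0, 0, 0, 0, 0] 0
    have k2 := k ![0, 0, 1, 0, 0, 0, 0] 0
    have k3 := k ![0, 0, 0, 1, 0, 0, 0] 0
    have k4 := k ![0, 0, 0, 0, 1, 0, 0] 0 1
    have k5 := k ![0, 0, 0, 0, 0, 1, 0] 0 1
    have k6 := k ![0, 0, 0, 0, 0, 0, 1] 0 1
    simp [mk5, mul_apply, Fin.sum_univ_succ] at k4 k5 k6
    simp [mk5, mul_apply, Fin.sum_univ_succ, Fin.forall_fin_succ, k4, k5, k6] at k1 k2 k3
    ext i j; fin_cases i <;> fin_cases j <;> simp [mk5, *]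
  rcases (by decide : ∀ a : ZMod 2, a = 0 ∨ a = 1) (x c 0) with k | k <;> rw [k] at h4
  · exact Or.inl (Subtype.ext (Subtype.ext (h4.trans (show _ = (1 : Matrix (Fin 5) (Fin 5) (ZMod 2)) by decide))))
  · exact Or.inr (Subtype.ext (h4.trans (by rw [hs]; decide)))

end Cfsg.Lib.Fis
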