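import Cfsg.Agent.Lib.Known2.TT1
import Cfsg.Agent.S5344

/-! Fischer spaces: the two model planes and the space of a set of 3-transpositions. -/

set_option autoImplicit false

namespace Cfsg.Lib.Fis

open Cfsg.LineSystem Cfsg.Lib.Known2

/-- A line system described by its third point operation. -/
structure Mod {Y : Type*} (M : Set (Set Y)) (op : Y → Y → Y) : Prop where
  mem : ∀ l, l ∈ M ↔ ∃ p q, op p q ≠ p ∧ l = {p, q, op p q}
  dist : ∀ p q x, op (op p q) x = op (op p x) (op q x)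
  inv : ∀ p x, op (op p x) x = p
  col : ∀ p q x y, op p q ≠ p → (x = p ∨ x = q ∨ x = op p q) → (y = p ∨ y = q ∨ y = op p q) → x ≠ y → op x y ≠ x
  ne : ∀ p q, op p q ≠ p → p ≠ q ∧ op p q ≠ q

/-- The third point in the affine plane. -/
def opA (p q : Fin 2 → ZMod 3) : Fin 2 → ZMod 3 := -p - q

/-- The third point in the dual affine plane. -/
def opD (s t : DualAffinePoint) : DualAffinePoint :=
  if h : (symmDiff s.1 t.1).card = 2 then ⟨_, h⟩ else s

theorem modA : Mod affinePlaneThree opA where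
  mem l := by
    have key : ∀ v w x : Fin 2 → ZMod 3, (∃ c : ZMod 3, x = v + c • w) ↔ x = v ∨ x = v + w ∨ x = opA v (v + w) := by
      decide +kernel
    have key2 : ∀ v w : Fin 2 → ZMod 3, opA v (v + w) ≠ v ↔ w ≠ 0 := by decide +kernel
    constructor
    · rintro ⟨v, w, h, rfl⟩
      exact ⟨v, v + w, (key2 v w).2 h, Set.ext (key v w)⟩
    · rintro ⟨p, q, h, rfl⟩
      obtain ⟨w, rfl⟩ : ∃ w, q = p + w := ⟨q - p, by simp⟩
      exact ⟨p, w, (key2 p w).1 h, (Set.ext (key p w)).symm⟩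
  dist := by decide +kernel
  inv := by decide +kernel
  col p := by revert p; set_option synthInstance.maxSize 1000 in decide +kernel
  ne := by decide +kernel

theorem modD : Mod dualAffinePlaneTwo opD where
  mem l := by
    have key : ∀ i : Fin 4, ∃ p q, opD p q ≠ p ∧ ∀ s : DualAffinePoint, i ∉ s.1 ↔ s = p ∨ s = q ∨ s = opD p q := by
      decide +kernel
    have key2 : ∀ p q, opD p q ≠ p → ∃ i : Fin 4, ∀ s : DualAffinePoint, i ∉ s.1 ↔ s = p ∨ s = q ∨ s = opD p q := by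
      decide +kernel
    constructor
    · rintro ⟨i, rfl⟩
      obtain ⟨p, q, h, k⟩ := key i
      exact ⟨p, q, h, Set.ext k⟩
    · rintro ⟨p, q, h, rfl⟩
      obtain ⟨i, k⟩ := key2 p q h
      exact ⟨i, (Set.ext k).symm⟩
  dist := by decide +kernel
  inv := by decide +kernel
  col := by decide +kernel
  ne := by decide +kernel

section Map

variable {X : Type*} {L : Set (Set X)} (h1 : IsPartialLinear L) (h3 : ∀ l ∈ L, l.ncard = 3) {x y z : X}

theorem lineMap_of_not (h : ¬ Collinear L x y) : lineMap L x y = y := by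
  unfold lineMap
  exact dif_neg fun ⟨z, _, _, k, hl⟩ => h ⟨k, _, hl, by simp, by simp⟩

include h1 in
theorem lineMap_eq (hz : z ≠ x) (hz' : z ≠ y) (hxy : x ≠ y) (hl : {x, y, z} ∈ L) : lineMap L x y = z := by
  unfold lineMap
  have h : ∃ z : X, z ≠ x ∧ z ≠ y ∧ x ≠ y ∧ ({x, y, z} : Set X) ∈ L := ⟨z, hz, hz', hxy, hl⟩
  simp only [dif_pos h]
  obtain ⟨k1, k2, -, k3⟩ := h.choose_spec
  have := h1 _ k3 _ hl x y hxy (by simp) (by simp) (by simp) (by simp)
  have h2 : h.choose ∈ ({x, y, z} : Set X) := by rw [← this]; simp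
  simpa [k1, k2] using h2

include h3 in
theorem third {l : Set X} (hl : l ∈ L) (hx : x ∈ l) (hy : y ∈ l) (hxy : x ≠ y) :
    ∃ z, z ≠ x ∧ z ≠ y ∧ l = {x, y, z} := by
  obtain ⟨a, b, c, hab, hac, hbc, rfl⟩ := Set.ncard_eq_three.1 (h3 l hl)
  simp only [Set.mem_insert_iff, Set.mem_singleton_iff] at hx hy
  rcases hx with rfl | rfl | rfl <;> rcases hy with rfl | rfl | rfl <;> try exact absurd rfl hxy
  · exact ⟨c, hac.symm, hbc.symm, rfl⟩
  · exact ⟨b, hab.symm, hbc, by ext; simp; tauto⟩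
  · exact ⟨c, hbc.symm, hac.symm, by ext; simp; tauto⟩
  · exact ⟨a, hab, hac, by ext; simp; tauto⟩
  · exact ⟨b, hbc, hab.symm, by ext; simp; tauto⟩
  · exact ⟨a, hac, hab, by ext; simp; tauto⟩

include h1 h3 in
theorem lineMap_col (h : Collinear L x y) : lineMap L x y ≠ x ∧ lineMap L x y ≠ y ∧ {x, y, lineMap L x y} ∈ L := by
  obtain ⟨k, l, hl, hx, hy⟩ := h
  obtain ⟨z, k1, k2, rfl⟩ := third h3 hl hx hy k
  rw [lineMap_eq h1 k1 k2 k hl]; exact ⟨k1, k2, hl⟩

include h1 h3 in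
theorem lineMap_invol (x y : X) : lineMap L x (lineMap L x y) = y := by
  by_cases h : Collinear L x y
  · obtain ⟨k1, k2, k3⟩ := lineMap_col h1 h3 h
    exact lineMap_eq h1 h.1.symm k2.symm k1.symm (by rwa [Set.pair_comm])
  · rw [lineMap_of_not h, lineMap_of_not h]

theorem span_subspace (S : Set X) : IsSubspace L (span L S) := fun l hl x hx y hy hxy hxl hyl _ hz T hT =>
  hT.2 l hl x (hx T hT) y (hy T hT) hxy hxl hyl hz

theorem subset_span (S : Set X) : S ⊆ span L S := fun _ hx _ hT => hT.1 hx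

include h1 in
theorem lineMap_model {Y : Type*} {M : Set (Set Y)} {op : Y → Y → Y} (hM : Mod M op) {S : Set X} (hS : IsSubspace L S)
    {e : S ≃ Y} (he : IsIso (restrict L S) M e) (x y : S) : lineMap L x.1 y.1 = e.symm (op (e y) (e x)) := by
  by_cases k : op (e y) (e x) = e y
  · rw [k, Equiv.symm_apply_apply]
    refine lineMap_of_not fun ⟨hxy, l, hl, hx, hy⟩ => ?_
    obtain ⟨p, q, k1, k2⟩ := (hM.mem _).1 ((he _).1 ⟨l, hl, hS l hl x x.2 y y.2 hxy hx hy, rfl⟩)
    refine hM.col p q (e y) (e x) k1 ?_ ?_ (fun h => hxy (by rw [e.injective h])) k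
    · exact (k2.subset ⟨y, hy, rfl⟩ :)
    · exact (k2.subset ⟨x, hx, rfl⟩ :)
  · obtain ⟨k1, k2⟩ := hM.ne _ _ k
    obtain ⟨l, hl, k3, k4⟩ := (he {y, x, e.symm (op (e y) (e x))}).2 ((hM.mem _).2 ⟨e y, e x, k, by
      simp [Set.image_insert_eq]⟩)
    refine lineMap_eq h1 (fun h => k2 (e.symm_apply_eq.1 (Subtype.ext h))) (fun h => k (e.symm_apply_eq.1 (Subtype.ext h)))
      (fun h => k1 (by rw [Subtype.ext h])) ?_
    convert hl using 1
    ext w
    constructor
    · rintro (rfl | rfl | rfl)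
      · exact k4.subset (by simp)
      · exact k4.subset (by simp)
      · exact k4.subset (by simp)
    · intro hw
      rcases k4.superset (show (⟨w, k3 hw⟩ : S) ∈ {x : S | x.1 ∈ l} from hw) with h | h | h
      · exact Or.inr (Or.inl (congrArg Subtype.val h))
      · exact Or.inl (congrArg Subtype.val h)
      · exact Or.inr (Or.inr (congrArg Subtype.val h))

include h1 in
theorem image_mem_of_model {Y : Type*} {M : Set (Set Y)} {op : Y → Y → Y} (hM : Mod M op) {S : Set X}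
    (hS : IsSubspace L S) (he : Isomorphic (restrict L S) M) (hx : x ∈ S) {m : Set X} (hm : m ∈ L) (hmS : m ⊆ S) :
    lineMap L x '' m ∈ L := by
  obtain ⟨e, he⟩ := he
  obtain ⟨p, q, k1, k2⟩ := (hM.mem _).1 ((he _).1 ⟨m, hm, hmS, rfl⟩)
  set x' := e ⟨x, hx⟩
  obtain ⟨l, hl, k3, k4⟩ := (he (e.symm '' {op p x', op q x', op (op p x') (op q x')})).2 ((hM.mem _).2
    ⟨op p x', op q x', fun h => k1 (by rw [← hM.inv (op p q) x', hM.dist p, h, hM.inv]), by simp [Set.image_image]⟩)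
  have key : ∀ w : S, lineMap L x w.1 = e.symm (op (e w) x') := lineMap_model h1 hM hS he ⟨x, hx⟩
  convert hl using 1
  ext w
  constructor
  · rintro ⟨w, hw, rfl⟩
    rw [key ⟨w, hmS hw⟩]
    refine k4.subset ⟨_, ?_, rfl⟩
    rcases k2.subset ⟨⟨w, hmS hw⟩, hw, rfl⟩ with h | h | h
    · simp [h]
    · simp [h]
    · rw [show e _ = _ from h, hM.dist p q]; simp
  · intro hw
    obtain ⟨u, hu, h⟩ := k4.superset (show (⟨w, k3 hw⟩ : S) ∈ {x : S | x.1 ∈ l} from hw)
    obtain ⟨v, hv, rfl⟩ : ∃ v ∈ ({p, q, op p q} : Set Y), u = op v x' := by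
      rcases hu with h | h | h
      · exact ⟨p, by simp, h⟩
      · exact ⟨q, by simp, h⟩
      · exact ⟨op p q, by simp, h.trans (hM.dist ..).symm⟩
    obtain ⟨v, hv', rfl⟩ := k2.superset hv
    exact ⟨v.1, hv', by rw [key, h]⟩

theorem image_mem (hL : IsFischerSpace L) (x : X) {m : Set X} (hm : m ∈ L) : lineMap L x '' m ∈ L := by
  by_cases k : ∃ p ∈ m, Collinear L x p
  · obtain ⟨p, hp, hxp, l, hl, k1, k2⟩ := k
    by_cases e : l = m
    · subst e
      obtain ⟨z, k3, k4, rfl⟩ := third hL.2.1 hl k1 k2 hxp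
      simp only [Set.image_insert_eq, Set.image_singleton]
      rw [lineMap_of_not fun h => h.1 rfl, lineMap_eq hL.1 k3 k4 hxp hl,
        lineMap_eq hL.1 hxp.symm k4.symm k3.symm (by rwa [Set.pair_comm])]
      rwa [Set.pair_comm]
    · have hx := subset_span (L := L) (l ∪ m) (Or.inl k1)
      have hS : m ⊆ span L (l ∪ m) := fun _ h => subset_span _ (Or.inr h)
      rcases hL.2.2 l hl m hm e ⟨p, k2, hp⟩ with h | h
      · exact image_mem_of_model hL.1 modD (span_subspace _) h hx hm hS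
      · exact image_mem_of_model hL.1 modA (span_subspace _) h hx hm hS
  · rwa [Set.image_congr (f := lineMap L x) (g := id) fun p hp => lineMap_of_not fun h => k ⟨p, hp, h⟩, Set.image_id]

include h1 h3 in
theorem lineMap_iso {σ : Equiv.Perm X} (hσ : IsIso L L σ) (x y : X) : lineMap L (σ x) (σ y) = σ (lineMap L x y) := by
  by_cases h : Collinear L x y
  · obtain ⟨k1, k2, k3⟩ := lineMap_col h1 h3 h
    exact lineMap_eq h1 (σ.injective.ne k1) (σ.injective.ne k2) (σ.injective.ne h.1)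
      (by simpa [Set.image_insert_eq] using (hσ _).1 k3)
  · rw [lineMap_of_not h, lineMap_of_not]
    rintro ⟨k, l, hl, k1, k2⟩
    exact h ⟨fun e => k (by rw [e]), σ.symm '' l, (hσ _).2 (by simpa [Set.image_image] using hl), ⟨_, k1, by simp⟩,
      ⟨_, k2, by simp⟩⟩

end Map

section Grp

variable {G : Type*} [Group G] {D : Set G} (h : TT D)

/-- The line through two points. -/
def ln (x y : D) : Set D := {z : D | (z : G) = x ∨ (z : G) = y ∨ (z : G) = (y : G) * (x : G) * (y : G)⁻¹}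

include h

theorem ln_comm {x y : D} (hn : ¬ Commute (x : G) y) : ln x y = ln y x := by
  ext z
  simp only [ln, Set.mem_ofPred_eq, h.inv x.2, h.inv y.2, h.braid x.2 y.2 hn]
  tauto

theorem ln_third {x y z : D} (hz : (z : G) = y * x * (y : G)⁻¹) : ln z y = ln x y := by
  ext w
  simp only [ln, Set.mem_ofPred_eq, hz, h.inv y.2, h.conj_conj y.2]
  tauto

theorem ln_eq {l : Set D} (hl : l ∈ threeTranspositionLines D) {x y : D} (hx : x ∈ l) (hy : y ∈ l) (hxy : x ≠ y) :
    ¬ Commute (x : G) y ∧ l = ln x y := by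
  obtain ⟨a, b, hn, rfl⟩ := hl
  change _ ∧ ln a b = _
  have hn' : ¬ Commute (b : G) a := fun e => hn e.symm
  let c : D := ⟨b * a * b, h.conj _ b.2 _ a.2⟩
  have e1 : (c : G) = b * a * (b : G)⁻¹ := by rw [h.inv b.2]
  have e2 : (c : G) = a * b * (a : G)⁻¹ := by rw [h.inv a.2, h.braid a.2 b.2 hn]
  have n1 : ¬ Commute (b : G) c := h.not_commute_third b.2 hn'
  have n2 : ¬ Commute (a : G) c := h.not_commute_third' b.2 a.2 hn'
  have f1 := ln_third h e1
  have f2 := (ln_third h e2).trans (ln_comm h hn).symm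
  have key : ∀ x ∈ ln a b, x = a ∨ x = b ∨ x = c := fun x hx =>
    hx.imp Subtype.ext (Or.imp Subtype.ext fun e => Subtype.ext (e.trans e1.symm))
  rcases key x hx with rfl | rfl | rfl <;> rcases key y hy with rfl | rfl | rfl <;> try exact absurd rfl hxy
  · exact ⟨hn, rfl⟩
  · exact ⟨n2, f2.symm.trans (ln_comm h n2).symm⟩
  · exact ⟨hn', ln_comm h hn⟩
  · exact ⟨n1, f1.symm.trans (ln_comm h n1).symm⟩
  · exact ⟨fun e => n2 e.symm, f2.symm⟩
  · exact ⟨fun e => n1 e.symm, f1.symm⟩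

theorem iso_of {Y : Type*} {M : Set (Set Y)} {op : Y → Y → Y} (hM : Mod M op) (φ : Y → D) (hi : Function.Injective φ)
    (hop : ∀ p q, (φ (op p q) : G) = φ q * φ p * (φ q : G)⁻¹) (a b c : Y)
    (hgen : ∀ y, ∃ u v, (u = b ∨ u = a ∨ u = op b a) ∧ (v = c ∨ v = a ∨ v = op c a) ∧ y = op u v) :
    Isomorphic (restrict (threeTranspositionLines D) (span (threeTranspositionLines D) (ln (φ b) (φ a) ∪ ln (φ c) (φ a)))) M := by
  have e1 : ∀ p q, ln (φ p) (φ q) = φ '' {p, q, op p q} := fun p q => by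
    ext z
    simp only [ln, Set.mem_ofPred_eq, ← hop, Set.image_insert_eq, Set.image_singleton, Set.mem_insert_iff,
      Set.mem_singleton_iff, Subtype.ext_iff]
  have e2 : ∀ p q, op p q ≠ p ↔ ¬ Commute (φ p : G) (φ q) := fun p q => by
    rw [← hi.ne_iff, Ne, Subtype.ext_iff, hop, mul_inv_eq_iff_eq_mul]
    exact not_congr ⟨fun e => e.symm, fun e => e.symm⟩
  have e3 : span (threeTranspositionLines D) (ln (φ b) (φ a) ∪ ln (φ c) (φ a)) = Set.range φ := by
    refine Set.Subset.antisymm (fun x hx => hx _ ⟨?_, ?_⟩) ?_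
    · rw [e1, e1]; exact Set.union_subset (Set.image_subset_range _ _) (Set.image_subset_range _ _)
    · rintro l hl _ ⟨p, rfl⟩ _ ⟨q, rfl⟩ k1 k2 k3
      rw [(ln_eq h hl k2 k3 k1).2, e1]; exact Set.image_subset_range _ _
    · rintro _ ⟨y, rfl⟩ T hT
      obtain ⟨u, v, hu, hv, rfl⟩ := hgen y
      have k1 : φ u ∈ T := hT.1 (Or.inl (by rw [e1]; exact ⟨u, hu, rfl⟩))
      have k2 : φ v ∈ T := hT.1 (Or.inr (by rw [e1]; exact ⟨v, hv, rfl⟩))
      by_cases k : op u v = u
      · rwa [k]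
      · exact hT.2 (ln (φ u) (φ v)) ⟨_, _, (e2 _ _).1 k, rfl⟩ _ k1 _ k2 (hi.ne (hM.ne _ _ k).1) (Or.inl rfl)
          (Or.inr (Or.inl rfl)) (Or.inr (Or.inr (hop _ _)))
  rw [e3]
  have e4 : ∀ p q, (Equiv.ofInjective φ hi).symm '' {x : Set.range φ | x.1 ∈ ln (φ p) (φ q)} = {p, q, op p q} :=
    fun p q => by
    ext y
    rw [Set.mem_image_equiv, e1]
    exact hi.mem_set_image
  refine ⟨(Equiv.ofInjective φ hi).symm, fun l => ⟨?_, fun k => ?_⟩⟩
  · rintro ⟨_, ⟨x, y, hn, rfl⟩, k, rfl⟩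
    obtain ⟨p, rfl⟩ := k (Or.inl rfl : x ∈ ln x y)
    obtain ⟨q, rfl⟩ := k (Or.inr (Or.inl rfl) : y ∈ ln _ y)
    exact (hM.mem _).2 ⟨p, q, (e2 _ _).2 hn, e4 p q⟩
  · obtain ⟨p, q, k1, k2⟩ := (hM.mem _).1 k
    exact ⟨ln (φ p) (φ q), ⟨_, _, (e2 _ _).1 k1, rfl⟩, by rw [e1]; exact Set.image_subset_range _ _,
      (Equiv.ofInjective φ hi).symm.injective.image_injective (k2.trans (e4 p q).symm)⟩

end Grp

end Cfsg.Lib.Fis
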